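import Groth.Agent.HomogSepLib.Irr
import Groth.Agent.GrpShear
import Groth.Prelude.Def_AlgGrp

/-!
# Orbit maps send maximal points into dense open subschemes
-/

set_option autoImplicit false
set_option backward.isDefEq.respectTransparency false

noncomputable section

universe u

open CategoryTheory CategoryTheory.Limits MonoidalCategory CartesianMonoidalCategory AlgebraicGeometry
open scoped MonObj

namespace Groth.Agent.HomogDense

/-- A point with no proper generalisation. -/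
def IsMaxPt {α : Type u} [TopologicalSpace α] (θ₁ : α) : Prop := ∀ z, z ⤳ θ₁ → z = θ₁

theorem isMax_homeo {α : Type u} [TopologicalSpace α] (φ : α ≃ₜ α) {θ₁ : α} (h : IsMaxPt θ₁) : IsMaxPt (φ θ₁) :=
  fun z hz => by
    have h1 : φ.symm z ⤳ θ₁ := by simpa using hz.map φ.symm.continuous
    rw [← h _ h1, φ.apply_symm_apply]

theorem exists_isMax_specializes {X : Scheme.{u}} (x : X) : ∃ θ₁ : X, IsMaxPt θ₁ ∧ θ₁ ⤳ x := by
  have hZ := irreducibleComponent_mem_irreducibleComponents x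
  have hg := hZ.1.isGenericPoint_genericPoint (isClosed_of_mem_irreducibleComponents _ hZ)
  refine ⟨hZ.1.genericPoint, fun z hz => ?_, hg.specializes mem_irreducibleComponent⟩
  have h1 : irreducibleComponent x ⊆ closure {z} := by
    rw [← hg.def]
    exact closure_minimal (Set.singleton_subset_iff.2 hz.mem_closure) isClosed_closure
  have h2 : closure {z} ⊆ irreducibleComponent x := hZ.2 isIrreducible_singleton.closure h1
  exact ((hg.specializes (h2 (subset_closure rfl))).antisymm hz).eq.symm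

theorem closure_mem_irreducibleComponents {X : Scheme.{u}} {θ₁ : X} (h : IsMaxPt θ₁) :
    closure {θ₁} ∈ irreducibleComponents X := by
  refine ⟨isIrreducible_singleton.closure, fun Z hZ hle => ?_⟩
  have hg := hZ.isGenericPoint_genericPoint_closure
  have h1 : hZ.genericPoint = θ₁ := h _ (hg.specializes (subset_closure (hle (subset_closure rfl))))
  rw [← h1, hg.def]
  exact subset_closure

/-- Near a maximal point of a locally Noetherian scheme no other component passes. -/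
theorem exists_open_unique_max {X : Scheme.{u}} [IsLocallyNoetherian X] {θ₁ : X} (h : IsMaxPt θ₁) :
    ∃ O : Set X, IsOpen O ∧ θ₁ ∈ O ∧ ∀ y ∈ O, ∀ ξ, IsMaxPt ξ → ξ ⤳ y → ξ = θ₁ := by
  obtain ⟨V, hV, hθ₁V, -⟩ := exists_isAffineOpen_mem_and_subset (X := X) (x := θ₁) (U := ⊤) trivial
  haveI : IsNoetherianRing Γ(X, V) := IsLocallyNoetherian.component_noetherian ⟨V, hV⟩
  haveI : TopologicalSpace.NoetherianSpace (V : Set X) := noetherianSpace_of_isAffineOpen V hV
  let others := {Z | Z ∈ irreducibleComponents X ∧ (Z ∩ V).Nonempty} \ {closure {θ₁}}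
  have hfin : others.Finite := by
    refine (((TopologicalSpace.NoetherianSpace.finite_irreducibleComponents (α := (V : Set X))).image
      fun Z => closure (Subtype.val '' Z)).subset ?_).subset Set.sdiff_subset
    rintro Z ⟨hZ, hne⟩
    refine ⟨Subtype.val ⁻¹' Z, preimage_mem_irreducibleComponents hZ V.2.isOpenEmbedding_subtypeVal
      (by rwa [Subtype.range_coe]), ?_⟩
    show closure (Subtype.val '' (Subtype.val ⁻¹' Z)) = Z
    rw [Subtype.image_preimage_coe, Set.inter_comm]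
    exact subset_antisymm (closure_minimal Set.inter_subset_left (isClosed_of_mem_irreducibleComponents Z hZ))
      (subset_closure_inter_of_isPreirreducible_of_isOpen hZ.1.2 V.2 hne)
  refine ⟨(V : Set X) \ ⋃₀ others, V.2.sdiff (HomogSep.isClosed_sUnion_of_finite' hfin
    fun Z hZ => isClosed_of_mem_irreducibleComponents Z hZ.1.1), ⟨hθ₁V, ?_⟩, fun y hy ξ hξ hξy => ?_⟩
  · rintro ⟨Z, ⟨⟨hZ, -⟩, hne⟩, hθ₁Z⟩
    exact hne (subset_antisymm ((closure_mem_irreducibleComponents h).2 hZ.1 (closure_minimal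
      (Set.singleton_subset_iff.2 hθ₁Z) (isClosed_of_mem_irreducibleComponents Z hZ)))
      (closure_minimal (Set.singleton_subset_iff.2 hθ₁Z) (isClosed_of_mem_irreducibleComponents Z hZ)))
  · by_contra hne
    refine hy.2 ⟨closure {ξ}, ⟨⟨closure_mem_irreducibleComponents hξ, y, hξy.mem_closure, hy.1⟩, fun e => hne ?_⟩,
      hξy.mem_closure⟩
    exact IsGenericPoint.eq (show IsGenericPoint ξ (closure {θ₁}) from e) rfl

theorem isMax_mem_of_dense {X : Scheme.{u}} [IsLocallyNoetherian X] {D : Set X} (hD : IsOpen D) (hd : Dense D)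
    {θ₁ : X} (h : IsMaxPt θ₁) : θ₁ ∈ D := by
  obtain ⟨O, hO, hθ₁O, hu⟩ := exists_open_unique_max h
  obtain ⟨y, hyO, hyD⟩ := hd.inter_open_nonempty O hO ⟨θ₁, hθ₁O⟩
  obtain ⟨ξ, hξ, hξy⟩ := exists_isMax_specializes y
  exact hu y hyO ξ hξ hξy ▸ hξy.mem_open hD hyD

theorem exists_isMax_mem {X : Scheme.{u}} [IsLocallyNoetherian X] {O : Set X} (hO : IsOpen O) (hne : O.Nonempty) :
    ∃ θ₁, IsMaxPt θ₁ ∧ θ₁ ∈ O := by
  obtain ⟨y, hy⟩ := hne
  obtain ⟨θ₁, hθ₁, hθ₁y⟩ := exists_isMax_specializes y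
  exact ⟨θ₁, hθ₁, hθ₁y.mem_open hO hy⟩

variable {S : Scheme.{u}} {G X : Over S} [GrpObj G] (a : AlgGrp.Action G X) {K : Type u} [Field K]

/-- For a surjective orbit map over an algebraically closed field, maximal points go into dense opens. -/
theorem max_mem_orbit [IsAlgClosed K] [LocallyOfFiniteType G.hom] (t : Spec (CommRingCat.of K) ⟶ S)
    (x : Over.mk t ⟶ X) [LocallyOfFiniteType (snd X (Over.mk t)).left]
    (hsurj : Function.Surjective (lift ((G ◁ x) ≫ a.act) (snd G (Over.mk t))).left)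
    {D : Set ↥(X ⊗ Over.mk t).left} (hD : IsOpen D) (hd : Dense D) {θ₁ : ↥(G ⊗ Over.mk t).left} (hθ₁ : IsMaxPt θ₁) :
    (lift ((G ◁ x) ≫ a.act) (snd G (Over.mk t))).left θ₁ ∈ D := by
  let T : Over S := Over.mk t
  let b : G ⊗ T ⟶ X ⊗ T := lift ((G ◁ x) ≫ a.act) (snd G T)
  haveI : LocallyOfFiniteType (snd G T).left :=
    inferInstanceAs (LocallyOfFiniteType (pullback.snd G.hom t))
  let gh : (G ⊗ T).left ⟶ Spec (CommRingCat.of K) := (snd G T).left
  haveI : LocallyOfFiniteType gh := inferInstanceAs (LocallyOfFiniteType (snd G T).left)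
  haveI : IsLocallyNoetherian (G ⊗ T).left := LocallyOfFiniteType.isLocallyNoetherian gh
  let xh : (X ⊗ T).left ⟶ Spec (CommRingCat.of K) := (snd X T).left
  haveI : LocallyOfFiniteType xh := inferInstanceAs (LocallyOfFiniteType (snd X T).left)
  haveI : IsLocallyNoetherian (X ⊗ T).left := LocallyOfFiniteType.isLocallyNoetherian xh
  haveI : JacobsonSpace (G ⊗ T).left := LocallyOfFiniteType.jacobsonSpace gh
  -- some maximal point goes to a maximal point
  obtain ⟨ξ, hξ, -⟩ : ∃ ξ : ↥(X ⊗ T).left, IsMaxPt ξ ∧ ξ ∈ Set.univ :=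
    exists_isMax_mem isOpen_univ ⟨b.left θ₁, trivial⟩
  obtain ⟨gm, hgm⟩ := hsurj ξ
  obtain ⟨ε₀, hε₀, hsp⟩ := exists_isMax_specializes gm
  have hb₀ : b.left ε₀ = ξ := hξ _ (hgm ▸ hsp.map b.left.continuous)
  -- translate it
  have hcl : ∀ θ : ↥(G ⊗ T).left, IsMaxPt θ → ∃ c : T ⟶ G, ∀ ξ', IsMaxPt ξ' →
      ξ' ⤳ (lift c (𝟙 T)).left (IsLocalRing.closedPoint K) → ξ' = θ := by
    intro θ hθ
    obtain ⟨O, hO, hθO, hu⟩ := exists_open_unique_max hθ
    obtain ⟨z, hzO, hzc⟩ := nonempty_inter_closedPoints (Z := O) ⟨θ, hθO⟩ hO.isLocallyClosed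
    obtain ⟨⟨q, hq⟩, e⟩ := (pointEquivClosedPoint gh).surjective ⟨z, hzc⟩
    have hqz : q (IsLocalRing.closedPoint K) = z := congrArg Subtype.val e
    let Q : T ⟶ G ⊗ T := Over.homMk q (by
      show q ≫ pullback.fst G.hom t ≫ G.hom = t
      rw [pullback.condition, ← Category.assoc, show q ≫ pullback.snd G.hom t = 𝟙 _ from hq, Category.id_comp])
    have hQ : Q ≫ snd G T = 𝟙 T := Over.OverMorphism.ext hq
    refine ⟨Q ≫ fst G T, fun ξ' hξ' hs => hu z hzO ξ' hξ' ?_⟩
    rw [show lift (Q ≫ fst G T) (𝟙 T) = Q from CartesianMonoidalCategory.hom_ext _ _ (by simp) (by simp [hQ])] at hs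
    rwa [← hqz]
  obtain ⟨c₀, hc₀⟩ := hcl ε₀ hε₀
  obtain ⟨c₁, hc₁⟩ := hcl θ₁ hθ₁
  let m : (T ⟶ G) → (G ⊗ T ⟶ G ⊗ T) := fun c => lift ((snd G T ≫ c) * fst G T) (snd G T)
  let n : (T ⟶ G) → (X ⊗ T ⟶ X ⊗ T) := fun c => lift (lift (snd X T ≫ c) (fst X T) ≫ a.act) (snd X T)
  have hm : ∀ c d, m c ≫ m d = m (d * c) := fun c d => CartesianMonoidalCategory.hom_ext _ _
    (by simp [m, MonObj.comp_mul, mul_assoc]) (by simp [m])
  have hm1 : m 1 = 𝟙 _ := CartesianMonoidalCategory.hom_ext _ _ (by simp [m, MonObj.comp_one]) (by simp [m])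
  have hn : ∀ c d, n c ≫ n d = n (d * c) := fun c d => CartesianMonoidalCategory.hom_ext _ _
    (by simp [n, MonObj.comp_mul, GrpShear.lift_mul_act, comp_lift_assoc]) (by simp [n])
  have hn1 : n 1 = 𝟙 _ := CartesianMonoidalCategory.hom_ext _ _
    (by simp [n, MonObj.comp_one, GrpShear.lift_one_act]) (by simp [n])
  let c := c₁ * c₀⁻¹
  let im : G ⊗ T ≅ G ⊗ T := ⟨m c, m c⁻¹, by rw [hm, inv_mul_cancel, hm1], by rw [hm, mul_inv_cancel, hm1]⟩
  let iN : X ⊗ T ≅ X ⊗ T := ⟨n c, n c⁻¹, by rw [hn, inv_mul_cancel, hn1], by rw [hn, mul_inv_cancel, hn1]⟩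
  let φ := Scheme.homeoOfIso ((Over.forget _).mapIso im)
  let ψ := Scheme.homeoOfIso ((Over.forget _).mapIso iN)
  have hφθ₁ : (m c).left ε₀ = θ₁ := by
    refine hc₁ _ (isMax_homeo φ hε₀) ?_
    have h1 : ε₀ ⤳ (lift c₀ (𝟙 T)).left (IsLocalRing.closedPoint K) := by
      obtain ⟨θ, hθ, hθs⟩ := exists_isMax_specializes ((lift c₀ (𝟙 T)).left (IsLocalRing.closedPoint K))
      exact hc₀ θ hθ hθs ▸ hθs
    have h2 := h1.map (m c).left.continuous
    rwa [← Scheme.Hom.comp_apply, ← Over.comp_left,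
      show lift c₀ (𝟙 T) ≫ m c = lift c₁ (𝟙 T) from CartesianMonoidalCategory.hom_ext _ _
        (by simp [m, c, MonObj.comp_mul]) (by simp [m])] at h2
  have hcomm : m c ≫ b = b ≫ n c := CartesianMonoidalCategory.hom_ext _ _
    (by
      simp only [m, n, b, show (G ◁ x : G ⊗ T ⟶ G ⊗ X) = lift (fst G T) (snd G T ≫ x) from
        CartesianMonoidalCategory.hom_ext _ _ (by simp) (by simp)]
      simp [GrpShear.lift_mul_act, comp_lift_assoc]) (by simp [m, n, b])
  refine (show b.left θ₁ ∈ D from ?_)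
  rw [← hφθ₁, ← Scheme.Hom.comp_apply, ← Over.comp_left, hcomm, Over.comp_left, Scheme.Hom.comp_apply, hb₀]
  exact isMax_mem_of_dense hD hd (isMax_homeo ψ hξ)

/-- The orbit map is surjective when the shear map is. -/
theorem orbit_surjective (hΦ : Surjective (lift a.act (snd G X)).left) {T : Over S} (x : T ⟶ X) :
    Function.Surjective (lift ((G ◁ x) ≫ a.act) (snd G T)).left := by
  intro w
  obtain ⟨v, hv⟩ := hΦ.surj ((X ◁ x).left w)
  obtain ⟨q, -, hq⟩ := Scheme.Pullback.exists_preimage_pullback (f := (lift a.act (snd G X)).left)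
    (g := (X ◁ x).left) v w hv
  let P : Over S := Over.mk (pullback.fst (lift a.act (snd G X)).left (X ◁ x).left ≫ (G ⊗ X).hom)
  let k : P ⟶ G ⊗ X := Over.homMk (pullback.fst _ _)
  let r : P ⟶ X ⊗ T := Over.homMk (pullback.snd _ _) (by
    show pullback.snd _ _ ≫ (X ⊗ T).hom = pullback.fst _ _ ≫ (G ⊗ X).hom
    rw [← Over.w (X ◁ x), ← Category.assoc, ← pullback.condition, Category.assoc, Over.w])
  have hk : k ≫ lift a.act (snd G X) = r ≫ (X ◁ x) := Over.OverMorphism.ext pullback.condition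
  have h1 := congrArg (· ≫ fst X X) hk
  have h2 := congrArg (· ≫ snd X X) hk
  simp only [Category.assoc, lift_fst, lift_snd, whiskerLeft_fst, whiskerLeft_snd] at h1 h2
  let e : P ⟶ G ⊗ T := lift (k ≫ fst G X) (r ≫ snd X T)
  have he : e ≫ lift ((G ◁ x) ≫ a.act) (snd G T) = r := CartesianMonoidalCategory.hom_ext _ _
    (by
      rw [Category.assoc, lift_fst, lift_whiskerLeft_assoc, Category.assoc, ← h2, ← comp_lift,
        lift_fst_snd, Category.comp_id, h1]) (by simp [e])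
  refine ⟨e.left q, ?_⟩
  rw [← Scheme.Hom.comp_apply, ← Over.comp_left, he]
  exact hq

end Groth.Agent.HomogDense
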