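import Groth.Agent.HomogSepLib.Main
import Groth.Agent.HomogDenseLib.Max

/-!
# Homogeneous spaces with a fibrewise dense separated open are separated
-/

set_option autoImplicit false
set_option backward.isDefEq.respectTransparency false

noncomputable section

universe u

open CategoryTheory CategoryTheory.Limits MonoidalCategory CartesianMonoidalCategory AlgebraicGeometry
open scoped MonObj

namespace Groth.Agent.HomogDense

variable {S : Scheme.{u}} {G X : Over S} [GrpObj G] (a : AlgGrp.Action G X)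

/-- The closure of the diagonal is invariant. -/
theorem mem_closure_diag (W : G.left.Opens) [UniversallyOpen (W.ι ≫ G.hom)] {Y : Over S} (g : Y ⟶ G) (y : Y ⟶ X ⊗ X) (p : Y.left)
    (hgW : g.left p ∈ W) (h : y.left p ∈ closure (Set.range (lift (𝟙 X) (𝟙 X)).left)) :
    (lift (lift g (y ≫ fst X X) ≫ a.act) (lift g (y ≫ snd X X) ≫ a.act)).left p ∈
      closure (Set.range (lift (𝟙 X) (𝟙 X)).left) := by
  let Ψ : G ⊗ (X ⊗ X) ⟶ X ⊗ X :=
    lift (lift (fst _ _) (snd _ _ ≫ fst X X) ≫ a.act) (lift (fst _ _) (snd _ _ ≫ snd X X) ≫ a.act)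
  let π := (snd G (X ⊗ X)).left
  let πW := pullback.snd (W.ι ≫ G.hom) (X ⊗ X).hom
  have hπ : IsOpenMap πW := (pullback.snd (W.ι ≫ G.hom) (X ⊗ X).hom).isOpenMap
  let jW : pullback (W.ι ≫ G.hom) (X ⊗ X).hom ⟶ (G ⊗ (X ⊗ X)).left :=
    pullback.map _ _ _ _ W.ι (𝟙 _) (𝟙 _) (by simp) (by simp)
  have hjπ : jW ≫ π = πW := (pullback.lift_snd _ _ _).trans (Category.comp_id _)
  have e : lift g y ≫ Ψ = lift (lift g (y ≫ fst X X) ≫ a.act) (lift g (y ≫ snd X X) ≫ a.act) := by
    simp only [Ψ, comp_lift, comp_lift_assoc, lift_fst, lift_snd_assoc]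
  rw [← e, Over.comp_left, Scheme.Hom.comp_apply]
  have h1 : (lift g y).left p ∈ closure (π ⁻¹' Set.range (lift (𝟙 X) (𝟙 X)).left) := by
    obtain ⟨w, hw⟩ : (lift g y).left p ∈ Set.range jW := by
      refine (Scheme.Pullback.range_map _ _ _ _ _ _ _ _ _).ge ⟨?_, ⟨_, rfl⟩⟩
      show (fst G (X ⊗ X)).left _ ∈ Set.range W.ι
      rw [Scheme.Opens.range_ι, ← Scheme.Hom.comp_apply, ← Over.comp_left, lift_fst]
      exact hgW
    rw [← hw]
    refine map_mem_closure jW.continuous (s := πW ⁻¹' Set.range (lift (𝟙 X) (𝟙 X)).left)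
      (hπ.preimage_closure_subset_closure_preimage
      (show πW w ∈ closure (Set.range (lift (𝟙 X) (𝟙 X)).left) from ?_)) fun v (hv : πW v ∈ Set.range (lift (𝟙 X) (𝟙 X)).left) => ?_
    · rw [← hjπ, Scheme.Hom.comp_apply, hw, ← Scheme.Hom.comp_apply, ← Over.comp_left, lift_snd]
      exact h
    · show π (jW v) ∈ Set.range (lift (𝟙 X) (𝟙 X)).left
      rwa [← Scheme.Hom.comp_apply, hjπ]
  refine closure_mono ?_ (image_closure_subset_closure_image Ψ.left.continuous ⟨_, h1, rfl⟩)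
  rintro _ ⟨v, ⟨x, hx⟩, rfl⟩
  obtain ⟨w, hw, -⟩ := Scheme.Pullback.exists_preimage_pullback (f := π) (g := (lift (𝟙 X) (𝟙 X)).left) v x hx.symm
  let P : Over S := Over.mk (pullback.fst π (lift (𝟙 X) (𝟙 X)).left ≫ (G ⊗ (X ⊗ X)).hom)
  let k : P ⟶ G ⊗ (X ⊗ X) := Over.homMk (pullback.fst _ _)
  let xk : P ⟶ X := Over.homMk (pullback.snd _ _) (by
    show pullback.snd _ _ ≫ X.hom = pullback.fst _ _ ≫ (G ⊗ (X ⊗ X)).hom
    rw [← Over.w (snd G (X ⊗ X)), pullback.condition_assoc, Over.w (lift (𝟙 X) (𝟙 X))])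
  have hk : k ≫ snd G (X ⊗ X) = xk ≫ lift (𝟙 X) (𝟙 X) := Over.OverMorphism.ext pullback.condition
  have hΨ : k ≫ Ψ = (lift (k ≫ fst _ _) xk ≫ a.act) ≫ lift (𝟙 X) (𝟙 X) := by
    simp only [Ψ, comp_lift, comp_lift_assoc, Category.comp_id, reassoc_of% hk, lift_fst, lift_snd, Category.assoc]
  refine ⟨(lift (k ≫ fst _ _) xk ≫ a.act).left w, ?_⟩
  rw [← Scheme.Hom.comp_apply, ← Over.comp_left, ← hΨ, Over.comp_left, Scheme.Hom.comp_apply]
  exact congrArg Ψ.left hw

theorem isSeparated_of_dense [LocallyOfFiniteType G.hom] (W : G.left.Opens)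
    (hW : ∀ p : ↥(𝟙_ (Over S)).left, (η : 𝟙_ (Over S) ⟶ G).left p ∈ W) [UniversallyOpen (W.ι ≫ G.hom)]
    (hΦ : Surjective (lift a.act (snd G X)).left)
    (hft : ∀ s : S, LocallyOfFiniteType (X.hom.fiberToSpecResidueField s))
    (hdense : ∀ s : S, ∃ U : X.left.Opens, IsSeparated (U.ι ≫ X.hom) ∧
      X.hom.base ⁻¹' {s} ⊆ closure ((U : Set X.left) ∩ X.hom.base ⁻¹' {s})) : IsSeparated X.hom := by
  suffices hcl : IsClosed (Set.range (lift (𝟙 X) (𝟙 X)).left) from
    ⟨IsClosedImmersion.of_isPreimmersion (pullback.diagonal X.hom) hcl⟩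
  refine closure_subset_iff_isClosed.1 fun z hz => ?_
  let K : Type u := AlgebraicClosure ((X ⊗ X).left.residueField z)
  let κz : Spec (CommRingCat.of K) ⟶ (X ⊗ X).left :=
    Spec.map (CommRingCat.ofHom (algebraMap ((X ⊗ X).left.residueField z) K)) ≫ (X ⊗ X).left.fromSpecResidueField z
  let κ : Spec (CommRingCat.of K) ⟶ S := κz ≫ (X ⊗ X).hom
  let T : Over S := Over.mk κ
  let y : T ⟶ X ⊗ X := Over.homMk κz
  let pt : T.left := IsLocalRing.closedPoint K
  haveI : Subsingleton T.left := inferInstanceAs (Subsingleton (PrimeSpectrum K))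
  have hy : ∀ q, y.left q = z := fun q => by
    show κz q = z
    rw [Scheme.Hom.comp_apply]
    exact Scheme.fromSpecResidueField_apply _ _
  let s : S := κ (IsLocalRing.closedPoint K)
  let d : Spec (CommRingCat.of K) ⟶ Spec (S.residueField s) :=
    Spec.map (S.descResidueField (Scheme.stalkClosedPointTo κ))
  have hd : d ≫ S.fromSpecResidueField s = κ :=
    Scheme.descResidueField_stalkClosedPointTo_fromSpecResidueField K S κ
  obtain ⟨U, hUs, hUd⟩ := hdense s
  -- the geometric fibre of `X`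
  haveI : IsIntegral (Spec (S.residueField s)) := inferInstanceAs (IsIntegral (Spec (CommRingCat.of _)))
  haveI : Subsingleton ↥(Spec (S.residueField s)) := inferInstanceAs (Subsingleton (PrimeSpectrum (S.residueField s)))
  haveI := hft s
  let e : pullback (X.hom.fiberToSpecResidueField s) d ≅ (X ⊗ T).left :=
    pullbackLeftPullbackSndIso X.hom (S.fromSpecResidueField s) d ≪≫ pullback.congrHom rfl hd
  have hesnd : (snd X T).left = e.inv ≫ pullback.snd (X.hom.fiberToSpecResidueField s) d := by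
    rw [Iso.eq_inv_comp]
    show e.hom ≫ pullback.snd X.hom κ = _
    simp [e]
    rfl
  haveI : LocallyOfFiniteType (snd X T).left := by
    rw [hesnd]
    haveI : LocallyOfFiniteType (pullback.snd (X.hom.fiberToSpecResidueField s) d) :=
      MorphismProperty.pullback_snd _ _ inferInstance
    infer_instance
  let u₀ : (X ⊗ T).left ⟶ X.hom.fiber s := e.inv ≫ pullback.fst (X.hom.fiberToSpecResidueField s) d
  haveI : UniversallyOpen u₀ := inferInstanceAs (UniversallyOpen (e.inv ≫ pullback.fst _ _))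
  have hefst : u₀ ≫ X.hom.fiberι s = (fst X T).left := by
    rw [Category.assoc, Iso.inv_comp_eq]
    show _ = e.hom ≫ pullback.fst X.hom κ
    simp [e]
    rfl
  let D : Set ↥(X ⊗ T).left := (fst X T).left ⁻¹' (U : Set X.left)
  have hD : Dense D := by
    have h0 : Dense (X.hom.fiberι s ⁻¹' (U : Set X.left)) := by
      intro v
      rw [(X.hom.fiberι s).isEmbedding.isInducing.closure_eq_preimage_closure_image, Set.mem_preimage,
        Set.image_preimage_eq_inter_range, Scheme.Hom.range_fiberι]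
      exact hUd (show X.hom.fiberι s v ∈ X.hom.base ⁻¹' {s} from (Scheme.Hom.range_fiberι X.hom s).le ⟨v, rfl⟩)
    have h1 := h0.preimage u₀.isOpenMap
    convert h1 using 1
    ext v
    show (fst X T).left v ∈ U ↔ X.hom.fiberι s (u₀ v) ∈ U
    rw [← Scheme.Hom.comp_apply, hefst]
  have hDo : IsOpen D := U.2.preimage (fst X T).left.continuous
  -- translates
  let x₁ := y ≫ fst X X
  let x₂ := y ≫ snd X X
  let a₁ := (G ◁ x₁) ≫ a.act
  let a₂ := (G ◁ x₂) ≫ a.act
  have hC : ((fst G T).left ⁻¹' (W : Set G.left)).Nonempty := by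
    refine ⟨(lift (1 : T ⟶ G) (𝟙 T)).left pt, ?_⟩
    show (fst G T).left _ ∈ W
    rw [← Scheme.Hom.comp_apply, ← Over.comp_left, lift_fst, Hom.one_def, Over.comp_left, Scheme.Hom.comp_apply]
    exact hW _
  haveI : LocallyOfFiniteType (snd G T).left := inferInstanceAs (LocallyOfFiniteType (pullback.snd G.hom κ))
  haveI : IsLocallyNoetherian (G ⊗ T).left :=
    LocallyOfFiniteType.isLocallyNoetherian (Y := Spec (CommRingCat.of K)) (snd G T).left
  obtain ⟨p, hp, hp₀⟩ := exists_isMax_mem (W.2.preimage (fst G T).left.continuous) hC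
  have hmem : ∀ x : T ⟶ X, ((G ◁ x) ≫ a.act).left p ∈ U := fun x => by
    have := max_mem_orbit a κ x (orbit_surjective a hΦ x) hDo hD hp
    rwa [Set.mem_preimage, ← Scheme.Hom.comp_apply, ← Over.comp_left, lift_fst] at this
  have hp₁ : p ∈ a₁.left ⁻¹' (U : Set X.left) := hmem x₁
  have hp₂ : p ∈ a₂.left ⁻¹' (U : Set X.left) := hmem x₂
  let Y : Over S := Over.mk ((G ⊗ T).left.fromSpecResidueField p ≫ (G ⊗ T).hom)
  let h : Y ⟶ G ⊗ T := Over.homMk ((G ⊗ T).left.fromSpecResidueField p)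
  haveI : IsReduced Y.left := inferInstanceAs (IsReduced (Spec ((G ⊗ T).left.residueField p)))
  haveI : Subsingleton Y.left := inferInstanceAs (Subsingleton (PrimeSpectrum ((G ⊗ T).left.residueField p)))
  let pY : Y.left := IsLocalRing.closedPoint ((G ⊗ T).left.residueField p)
  have hh : ∀ q, h.left q = p := fun q => Scheme.fromSpecResidueField_apply p q
  let g := h ≫ fst G T
  have hgW : g.left pY ∈ W := by
    show (h ≫ fst G T).left pY ∈ W
    rw [Over.comp_left, Scheme.Hom.comp_apply, hh]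
    exact hp₀
  let t := h ≫ snd G T
  have hmem := mem_closure_diag a W g (t ≫ y) pY hgW (by
    rw [Over.comp_left, Scheme.Hom.comp_apply, hy]
    exact hz)
  rw [Category.assoc, Category.assoc] at hmem
  let gy₁ := lift g (t ≫ x₁) ≫ a.act
  let gy₂ := lift g (t ≫ x₂) ≫ a.act
  have hg₁ : gy₁ = h ≫ a₁ := by
    have eh : lift g t = h := by simp [g, t, ← comp_lift]
    conv_rhs => rw [← eh]
    simp [gy₁, a₁]
  have hg₂ : gy₂ = h ≫ a₂ := by
    have eh : lift g t = h := by simp [g, t, ← comp_lift]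
    conv_rhs => rw [← eh]
    simp [gy₂, a₂]
  -- inside the affine open
  let Uo : Over S := Over.mk (U.ι ≫ X.hom)
  let j : Uo ⟶ X := Over.homMk U.ι
  haveI : IsSeparated Uo.hom := hUs
  have hr : ∀ (b : G ⊗ T ⟶ X), p ∈ b.left ⁻¹' (U : Set X.left) → Set.range (h ≫ b).left ⊆ Set.range U.ι := by
    intro b hb
    rintro _ ⟨q, rfl⟩
    rw [Scheme.Opens.range_ι, Over.comp_left, Scheme.Hom.comp_apply, hh]
    exact hb
  let v₁ : Y ⟶ Uo := Over.homMk (IsOpenImmersion.lift U.ι gy₁.left (hg₁ ▸ hr a₁ hp₁)) (by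
    show _ ≫ U.ι ≫ X.hom = Y.hom
    rw [IsOpenImmersion.lift_fac_assoc, Over.w])
  let v₂ : Y ⟶ Uo := Over.homMk (IsOpenImmersion.lift U.ι gy₂.left (hg₂ ▸ hr a₂ hp₂)) (by
    show _ ≫ U.ι ≫ X.hom = Y.hom
    rw [IsOpenImmersion.lift_fac_assoc, Over.w])
  have hv₁ : v₁ ≫ j = gy₁ := Over.OverMorphism.ext (IsOpenImmersion.lift_fac _ _ _)
  have hv₂ : v₂ ≫ j = gy₂ := Over.OverMorphism.ext (IsOpenImmersion.lift_fac _ _ _)
  haveI : IsOpenImmersion j.left := inferInstanceAs (IsOpenImmersion U.ι)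
  haveI : IsOpenImmersion (j ⊗ₘ j).left := by
    have : (j ⊗ₘ j).left = pullback.map Uo.hom Uo.hom X.hom X.hom j.left j.left (𝟙 S) (by simp) (by simp) := by
      refine pullback.hom_ext ?_ ?_
      · rw [pullback.lift_fst]
        exact (congrArg CommaMorphism.left (tensorHom_fst j j))
      · rw [pullback.lift_snd]
        exact (congrArg CommaMorphism.left (tensorHom_snd j j))
    rw [this]
    infer_instance
  haveI : IsClosedImmersion (lift (𝟙 Uo) (𝟙 Uo)).left := by
    show IsClosedImmersion (pullback.diagonal Uo.hom)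
    infer_instance
  let jj := j ⊗ₘ j
  have hjj : lift v₁ v₂ ≫ jj = lift gy₁ gy₂ := by simp only [jj, lift_map, hv₁, hv₂]
  have hq' : jj.left ((lift v₁ v₂).left pY) ∈ closure (Set.range (lift (𝟙 X) (𝟙 X)).left) := by
    rw [← Scheme.Hom.comp_apply, ← Over.comp_left, hjj]
    exact hmem
  have hqU : (lift v₁ v₂).left pY ∈ Set.range (lift (𝟙 Uo) (𝟙 Uo)).left := by
    have h1 : (lift v₁ v₂).left pY ∈ closure (jj.left ⁻¹' Set.range (lift (𝟙 X) (𝟙 X)).left) :=
      jj.left.isOpenEmbedding.isOpenMap.preimage_closure_subset_closure_preimage hq'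
    refine closure_minimal ?_ (lift (𝟙 Uo) (𝟙 Uo)).left.isClosedEmbedding.isClosed_range h1
    rintro v ⟨x, hx⟩
    have ex : (fst X X).left (jj.left v) = x := by
      rw [← hx, ← Scheme.Hom.comp_apply, ← Over.comp_left, lift_fst]
      rfl
    obtain ⟨xU, hxUeq⟩ : x ∈ Set.range j.left := by
      refine ⟨(fst Uo Uo).left v, ?_⟩
      rw [← ex, ← Scheme.Hom.comp_apply, ← Scheme.Hom.comp_apply, ← Over.comp_left, ← Over.comp_left, tensorHom_fst]
    refine ⟨xU, jj.left.isOpenEmbedding.injective ?_⟩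
    rw [← hx, ← hxUeq, ← Scheme.Hom.comp_apply, ← Scheme.Hom.comp_apply, ← Over.comp_left, ← Over.comp_left]
    simp [jj]
  have heq := HomogSep.eq_of_mem_range_diag v₁ v₂ pY hqU
  have hgy : gy₁ = gy₂ := by rw [← hv₁, ← hv₂, heq]
  have hcancel : ∀ x : Y ⟶ X, lift g⁻¹ (lift g x ≫ a.act) ≫ a.act = x := fun x => by
    rw [← GrpShear.lift_mul_act, inv_mul_cancel, GrpShear.lift_one_act]
  have hxx : t ≫ x₁ = t ≫ x₂ := by
    have h3 := congrArg (fun m => lift g⁻¹ m ≫ a.act) hgy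
    simpa only [gy₁, gy₂, hcancel] using h3
  refine ⟨(t ≫ x₁).left pY, ?_⟩
  rw [← Scheme.Hom.comp_apply, ← Over.comp_left, comp_lift, Category.comp_id]
  nth_rw 2 [hxx]
  have : lift (t ≫ x₁) (t ≫ x₂) = t ≫ y := by simp [x₁, x₂, ← comp_lift]
  rw [this, Over.comp_left, Scheme.Hom.comp_apply, hy]

end Groth.Agent.HomogDense
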